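import Mathlib
import Groth.Prelude
import Groth.Agent.Lib.Helper8.FinRes4
import Groth.Agent.Lib.Helper8.Depth19

/-!
# Cohen–Macaulayness of a quotient ring, read off on the base ring (helper2)

For a Noetherian ring `R`, an ideal `𝔠 ≤ p` with `p` prime: the `R_p`-module `(R/𝔠)_p` is
Cohen–Macaulay iff the local ring of `R/𝔠` at `p/𝔠` is Cohen–Macaulay.
-/

set_option autoImplicit false
universe u

namespace Groth.Agent.Helper2.CM

open LocCoh IsLocalRing Groth.Agent.Helper8.Depth Groth.Agent.Helper8.FinRes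

variable {R : Type u} [CommRing R] [IsNoetherianRing R] (𝔠 : Ideal R) (p : Ideal R) [p.IsPrime]

theorem isPrime_map_mk (h : 𝔠 ≤ p) : (p.map (Ideal.Quotient.mk 𝔠)).IsPrime :=
  Ideal.map_isPrime_of_surjective Ideal.Quotient.mk_surjective (by rw [Ideal.mk_ker]; exact h)

theorem comap_map_mk (h : 𝔠 ≤ p) : (p.map (Ideal.Quotient.mk 𝔠)).comap (Ideal.Quotient.mk 𝔠) = p := by
  rw [Ideal.comap_map_of_surjective _ Ideal.Quotient.mk_surjective, ← RingHom.ker_eq_comap_bot,
    Ideal.mk_ker, sup_eq_left]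
  exact h

/-- the only prime of `R ⧸ 𝔠` over `p` -/
theorem ptsOver_quotient (h : 𝔠 ≤ p) [hq : (p.map (Ideal.Quotient.mk 𝔠)).IsPrime] :
    ptsOver R (R ⧸ 𝔠) (R ⧸ 𝔠) p = {⟨p.map (Ideal.Quotient.mk 𝔠), hq⟩} := by
  ext q
  simp only [ptsOver, Set.mem_ofPred_eq, Set.mem_singleton_iff]
  constructor
  · rintro ⟨h1, -⟩
    apply PrimeSpectrum.ext
    show q.asIdeal = p.map (Ideal.Quotient.mk 𝔠)
    rw [← h1]
    exact (Ideal.map_comap_of_surjective _ Ideal.Quotient.mk_surjective _).symm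
  · rintro rfl
    refine ⟨comap_map_mk 𝔠 p h, ?_⟩
    rw [Module.mem_support_iff_of_finite, Module.annihilator_eq_bot.mpr inferInstance]
    exact bot_le

/-- **Bridge.** -/
theorem cm_localizedModule_quotient_iff (h : 𝔠 ≤ p)
    [hq : (p.map (Ideal.Quotient.mk 𝔠)).IsPrime] :
    IsCohenMacaulayModule (Localization.AtPrime p) (LocalizedModule p.primeCompl (R ⧸ 𝔠)) ↔
      IsCohenMacaulayLocalRing (Localization.AtPrime (p.map (Ideal.Quotient.mk 𝔠))) := by
  obtain ⟨hD, hd⟩ := supportDim_depth_restrictScalars_finite R (R ⧸ 𝔠) (R ⧸ 𝔠) p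
  rw [ptsOver_quotient 𝔠 p h, iSup_singleton] at hD
  rw [ptsOver_quotient 𝔠 p h, iInf_singleton] at hd
  change Module.supportDim (Localization.AtPrime p) (LocalizedModule p.primeCompl (R ⧸ 𝔠)) =
    Module.supportDim (Localization.AtPrime (p.map (Ideal.Quotient.mk 𝔠)))
      (LocalizedModule (p.map (Ideal.Quotient.mk 𝔠)).primeCompl (R ⧸ 𝔠)) at hD
  change depth (Localization.AtPrime p) (LocalizedModule p.primeCompl (R ⧸ 𝔠)) =
    depth (Localization.AtPrime (p.map (Ideal.Quotient.mk 𝔠)))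
      (LocalizedModule (p.map (Ideal.Quotient.mk 𝔠)).primeCompl (R ⧸ 𝔠)) at hd
  unfold IsCohenMacaulayModule
  rw [hD, hd, Module.supportDim_eq_of_equiv
      (localizedModuleSelfEquiv (p.map (Ideal.Quotient.mk 𝔠))),
    depth_localizedModule_self]
  constructor
  · intro h1
    exact { supportDim_eq_depth := h1 }
  · intro h1
    exact h1.supportDim_eq_depth

/-- the dimension of `(R/𝔠)_p` over `R_p` is the dimension of the local ring of `R/𝔠` at `p/𝔠` -/
theorem supportDim_localizedModule_quotient (h : 𝔠 ≤ p)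
    [hq : (p.map (Ideal.Quotient.mk 𝔠)).IsPrime] :
    Module.supportDim (Localization.AtPrime p) (LocalizedModule p.primeCompl (R ⧸ 𝔠)) =
      ringKrullDim (Localization.AtPrime (p.map (Ideal.Quotient.mk 𝔠))) := by
  obtain ⟨hD, -⟩ := supportDim_depth_restrictScalars_finite R (R ⧸ 𝔠) (R ⧸ 𝔠) p
  rw [ptsOver_quotient 𝔠 p h, iSup_singleton] at hD
  change Module.supportDim (Localization.AtPrime p) (LocalizedModule p.primeCompl (R ⧸ 𝔠)) =
    Module.supportDim (Localization.AtPrime (p.map (Ideal.Quotient.mk 𝔠)))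
      (LocalizedModule (p.map (Ideal.Quotient.mk 𝔠)).primeCompl (R ⧸ 𝔠)) at hD
  rw [hD, Module.supportDim_eq_of_equiv
      (localizedModuleSelfEquiv (p.map (Ideal.Quotient.mk 𝔠))),
    Module.supportDim_self_eq_ringKrullDim]

end Groth.Agent.Helper2.CM
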