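import Mathlib
import Groth.Prelude
import Groth.Agent.Lib.Helper8.Depth33
import Groth.Agent.Lib.Helper8.Depth29
import Groth.Agent.Lib.Helper8.Fib5
import Groth.Agent.Lib.Helper8.FlatReg13

/-!
# Unmixedness in Cohen–Macaulay rings (helper2)

If `R` is a Cohen–Macaulay ring and `J` is generated by `r` elements with `r ≤ height J`, then every
associated prime of `R ⧸ J` has height `r`.
-/

set_option autoImplicit false
universe u

namespace Groth.Agent.Helper2.CM

open RingTheory.Sequence LocCoh Pointwise IsLocalRing Groth.Agent.Helper8.Depth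

variable {R : Type u} [CommRing R]

/-- Localizations of Cohen–Macaulay rings are Cohen–Macaulay (as in Helper8's `EssFT1`, restated here
to keep the import closure small). -/
theorem isCohenMacaulayRing_of_isLocalization {L : Type u} [CommRing L]
    [Algebra R L] (M : Submonoid R) [IsLocalization M L] (h : IsCohenMacaulayRing R) :
    IsCohenMacaulayRing L := by
  haveI : IsNoetherianRing R := inferInstance
  haveI : IsNoetherianRing L := IsLocalization.isNoetherianRing M L inferInstance
  rw [Groth.Agent.Helper8.Fib.isCohenMacaulayRing_iff_forall_hasSk] at h ⊢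
  intro k
  have hk := h k
  rw [Groth.Agent.Helper8.FlatReg.hasSk_self_iff_skLocal] at hk ⊢
  intro Q _
  haveI : IsLocalization.AtPrime (Localization.AtPrime Q) (Q.comap (algebraMap R L)) :=
    IsLocalization.isLocalization_isLocalization_atPrime_isLocalization M _ Q
  let e : Localization.AtPrime (Q.comap (algebraMap R L)) ≃ₐ[R] Localization.AtPrime Q :=
    IsLocalization.algEquiv (Q.comap (algebraMap R L)).primeCompl _ _
  exact Groth.Agent.Helper8.FlatReg.skLocal_of_ringEquiv k e.toRingEquiv
    (hk (Q.comap (algebraMap R L)))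

/-- Unmixedness theorem, list form. -/
theorem height_eq_of_mem_associatedPrimes_ofList (hCM : IsCohenMacaulayRing R) (xs : List R)
    (hht : (xs.length : ℕ∞) ≤ (Ideal.ofList xs).height) (P : Ideal R)
    (hP : P ∈ associatedPrimes R (R ⧸ Ideal.ofList xs)) : P.height = xs.length := by
  haveI := hCM
  haveI : IsNoetherianRing R := inferInstance
  haveI hPp : P.IsPrime := hP.isPrime
  set A := Localization.AtPrime P with hA
  set Mp := LocalizedModule P.primeCompl R with hMp
  haveI hAloc : IsCohenMacaulayLocalRing A := hCM.isCohenMacaulayLocalRing_localization P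
  have hAring : IsCohenMacaulayRing A :=
    isCohenMacaulayRing_of_isLocalization P.primeCompl hCM
  have hAA : IsCohenMacaulayModule A A := hAloc.supportDim_eq_depth
  have hMpCM : IsCohenMacaulayModule A Mp :=
    (isCohenMacaulayModule_congr (localizedModuleSelfEquiv P)).mpr hAA
  -- `J ≤ P`
  have hJP : Ideal.ofList xs ≤ P := by
    intro x hx
    have h1 : x ∈ Module.annihilator R (R ⧸ Ideal.ofList xs) := by
      rw [Ideal.annihilator_quotient]; exact hx
    have h2 : Module.annihilator R (R ⧸ Ideal.ofList xs) ≤ P := by
      rw [← Submodule.annihilator_top]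
      exact IsAssociatedPrime.annihilator_le hP
    exact h2 h1
  set ys := xs.map (algebraMap R A) with hys
  have hlen : ys.length = xs.length := List.length_map _
  have hysm : ∀ y ∈ ys, y ∈ maximalIdeal A := by
    intro y hy
    obtain ⟨x, hx, rfl⟩ := List.mem_map.mp hy
    exact (IsLocalization.AtPrime.to_map_mem_maximal_iff A P x).mpr
      (hJP (Ideal.subset_span hx))
  set I := Ideal.ofList ys with hI
  have hIm : I ≤ maximalIdeal A := Ideal.span_le.mpr hysm
  have hItop : I ≠ ⊤ := fun h => (maximalIdeal.isMaximal A).ne_top (top_le_iff.mp (h ▸ hIm))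
  -- height of `I`
  have hImap : I = (Ideal.ofList xs).map (algebraMap R A) := by
    rw [hI, hys, Ideal.map_ofList]
  have hIht : (xs.length : ℕ∞) ≤ I.height := by
    have h1 : Ideal.ofList xs ≤ I.under R := by
      rw [hImap]; exact Ideal.le_comap_map
    have h2 := Ideal.height_mono h1
    rw [IsLocalization.height_under P.primeCompl I] at h2
    exact hht.trans h2
  have hdepthI : idealDepth I Mp = I.height := by
    rw [idealDepth_congr (localizedModuleSelfEquiv P)]
    exact (isCohenMacaulayRing_iff_idealDepth_eq_height.mp hAring) I hItop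
  have h1 := cm_supportDim_eq_add_idealDepth I hItop Mp hMpCM
  have h2 := supportDim_le_add_length ys hysm Mp
  rw [hdepthI] at h1
  have h3 : Module.supportDim A (Mp ⧸ (I • (⊤ : Submodule A Mp))) + (ys.length : WithBot ℕ∞) =
      Module.supportDim A Mp := by
    apply le_antisymm
    · rw [h1, hlen]
      gcongr
      exact_mod_cast hIht
    · exact h2
  obtain ⟨hiff, hcm⟩ := cm_list ys hysm Mp hMpCM
  have hreg : IsWeaklyRegular Mp ys := hiff.mpr (by exact_mod_cast h3)
  have hN := hcm hreg
  -- depth of `N` is zero
  have hP' : P ∈ associatedPrimes R (R ⧸ (Ideal.ofList xs • (⊤ : Submodule R R))) := by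
    rw [LinearEquiv.AssociatedPrimes.eq (quotSMulTopRingEquiv (Ideal.ofList xs))]
    exact hP
  have hd0 := (depth_localizedModule_eq_zero_iff P
    (R ⧸ (Ideal.ofList xs • (⊤ : Submodule R R)))).mpr hP'
  have e := localizedQuotOfListEquiv P R xs
  have hd0' : depth A (Mp ⧸ (I • (⊤ : Submodule A Mp))) = 0 := by
    unfold depth at hd0 ⊢
    rw [← idealDepth_congr e]
    exact hd0
  have hN0 : Module.supportDim A (Mp ⧸ (I • (⊤ : Submodule A Mp))) = 0 := by
    have := hN
    unfold IsCohenMacaulayModule at this
    rw [this, hd0']
    rfl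
  rw [hN0, zero_add, hlen] at h3
  have h4 : Module.supportDim A Mp = (P.height : WithBot ℕ∞) := by
    rw [Module.supportDim_eq_of_equiv (localizedModuleSelfEquiv P)]
    exact supportDim_localization_self P
  rw [h4] at h3
  exact_mod_cast h3.symm

/-- Unmixedness theorem for an ideal generated by a finite family. -/
theorem height_eq_of_mem_associatedPrimes_span_range (hCM : IsCohenMacaulayRing R) {r : ℕ}
    (f : Fin r → R) (hht : (r : ℕ∞) ≤ (Ideal.span (Set.range f)).height) (P : Ideal R)
    (hP : P ∈ associatedPrimes R (R ⧸ Ideal.span (Set.range f))) : P.height = r := by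
  have hxs : Ideal.ofList (List.ofFn f) = Ideal.span (Set.range f) := by
    unfold Ideal.ofList
    congr 1
    ext x
    simp [List.mem_ofFn]
  have h := height_eq_of_mem_associatedPrimes_ofList hCM (List.ofFn f)
    (by rw [hxs, List.length_ofFn]; exact hht) P (by rw [hxs]; exact hP)
  rw [h, List.length_ofFn]

end Groth.Agent.Helper2.CM
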