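import Mathlib
import Groth.Prelude
import Groth.Agent.Lib.Helper2.CM.Unmixed
import Groth.Agent.Lib.Helper2.CM.Bridge
import Groth.Agent.Lib.Helper6.GrCM.Vertex
import Groth.Agent.Lib.Helper8.Depth24
import Groth.Agent.Lib.Helper8.CplMap3
import Groth.Agent.S18866

/-!
# Homogeneous Cohen–Macaulay quotients of polynomial rings are unmixed (helper2)
-/

set_option autoImplicit false
universe u

namespace Groth.Agent.Helper2.CM

open MvPolynomial LocCoh IsLocalRing Groth.Agent.Helper8.Depth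

section Std

variable {σ : Type} {K : Type u} [Field K]

lemma weight_one_int (m : σ →₀ ℕ) :
    Finsupp.weight (fun _ : σ => (1 : ℤ)) m = ((Finsupp.weight (1 : σ → ℕ) m : ℕ) : ℤ) := by
  simp [Finsupp.weight_apply, Finsupp.sum]

lemma exists_isHomogeneous_of_mem_stdGr {d : ℤ} {p : MvPolynomial σ K}
    (hp : p ∈ GrSyz.stdGr K σ d) : ∃ k : ℕ, p.IsHomogeneous k := by
  rw [GrSyz.mem_stdGr_iff] at hp
  by_cases h0 : p = 0
  · exact ⟨0, h0 ▸ MvPolynomial.isHomogeneous_zero _ _ _⟩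
  · obtain ⟨m₀, hm₀⟩ := MvPolynomial.ne_zero_iff.mp h0
    refine ⟨Finsupp.weight (1 : σ → ℕ) m₀, ?_⟩
    intro m hm
    have h1 := hp hm
    have h2 := hp hm₀
    rw [weight_one_int] at h1 h2
    have : ((Finsupp.weight (1 : σ → ℕ) m : ℕ) : ℤ) = ((Finsupp.weight (1 : σ → ℕ) m₀ : ℕ) : ℤ) :=
      h1.trans h2.symm
    exact_mod_cast this

/-- Minimal primes of an ideal homogeneous for the standard `ℤ`-grading lie in the irrelevant ideal. -/
theorem minimalPrimes_le_irr_of_stdGr {𝔠 : Ideal (MvPolynomial σ K)}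
    (h𝔠 : 𝔠.IsHomogeneous (GrSyz.stdGr K σ)) {Q : Ideal (MvPolynomial σ K)}
    (hQ : Q ∈ 𝔠.minimalPrimes) : Q ≤ Groth.Agent.Lib.Helper6.GrCM.irr σ K := by
  obtain ⟨S, hS⟩ := (Ideal.IsHomogeneous.iff_exists _ _).mp h𝔠
  rw [hS] at hQ
  refine Groth.Agent.Lib.Helper6.GrCM.minimalPrimes_le_irr_of_span _ ?_ hQ
  rintro f ⟨⟨g, d, hg⟩, -, rfl⟩
  exact exists_isHomogeneous_of_mem_stdGr hg

end Std

section Heights

variable {R : Type u} [CommRing R]

/-- `dim A = dim A/I + ht I` in a Cohen–Macaulay local ring. -/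
theorem cm_local_dim_eq (A : Type u) [CommRing A] [hAloc : IsCohenMacaulayLocalRing A]
    (hAring : IsCohenMacaulayRing A) (I : Ideal A) (hI : I ≠ ⊤) :
    ringKrullDim A = ringKrullDim (A ⧸ I) + (I.height : WithBot ℕ∞) := by
  have hAA : IsCohenMacaulayModule A A := hAloc.supportDim_eq_depth
  have h1 := cm_supportDim_eq_add_idealDepth I hI A hAA
  rw [(isCohenMacaulayRing_iff_idealDepth_eq_height.mp hAring) I hI,
    supportDim_quot_smul_top_self, Module.supportDim_self_eq_ringKrullDim] at h1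
  exact h1

/-- For a minimal prime `P` of `𝔠` inside a prime `𝔪` at which `R ⧸ 𝔠` is Cohen–Macaulay:
`ht P + dim (R/𝔠)_𝔪 = ht 𝔪`. -/
theorem height_add_supportDim_eq (hCMR : IsCohenMacaulayRing R) (𝔠 𝔪 : Ideal R) [𝔪.IsPrime]
    (h𝔠𝔪 : 𝔠 ≤ 𝔪) [hq : (𝔪.map (Ideal.Quotient.mk 𝔠)).IsPrime]
    (hCM : IsCohenMacaulayLocalRing (Localization.AtPrime (𝔪.map (Ideal.Quotient.mk 𝔠))))
    (P : Ideal R) (hP : P ∈ 𝔠.minimalPrimes) (hP𝔪 : P ≤ 𝔪) :
    (P.height : WithBot ℕ∞) +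
        Module.supportDim (Localization.AtPrime 𝔪) (LocalizedModule 𝔪.primeCompl (R ⧸ 𝔠)) =
      (𝔪.height : WithBot ℕ∞) := by
  haveI := hCMR
  haveI : IsNoetherianRing R := inferInstance
  set A := Localization.AtPrime 𝔪 with hA
  set N := LocalizedModule 𝔪.primeCompl (R ⧸ 𝔠) with hN
  haveI hAloc : IsCohenMacaulayLocalRing A := hCMR.isCohenMacaulayLocalRing_localization 𝔪
  have hAring : IsCohenMacaulayRing A := isCohenMacaulayRing_of_isLocalization 𝔪.primeCompl hCMR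
  have hNCM : IsCohenMacaulayModule A N := (cm_localizedModule_quotient_iff 𝔠 𝔪 h𝔠𝔪).mpr hCM
  haveI hPp : P.IsPrime := hP.1.1
  have hPass : P ∈ associatedPrimes R (R ⧸ 𝔠) := by
    apply Module.associatedPrimes.minimalPrimes_annihilator_subset_associatedPrimes R (R ⧸ 𝔠)
    rwa [Ideal.annihilator_quotient]
  have hdisj : Disjoint (𝔪.primeCompl : Set R) (P : Set R) := disjoint_primeCompl_of_le P 𝔪 hP𝔪
  set PA := P.map (algebraMap R A) with hPA
  haveI hPAp : PA.IsPrime := IsLocalization.isPrime_of_isPrime_disjoint 𝔪.primeCompl A P hPp hdisj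
  have hcomap : PA.comap (algebraMap R A) = P :=
    IsLocalization.under_map_of_isPrime_disjoint 𝔪.primeCompl A hPp hdisj
  have hPAass : PA ∈ associatedPrimes A N := by
    apply Module.associatedPrimes.mem_associatedPrimes_of_comap_mem_associatedPrimes_of_isLocalizedModule
      𝔪.primeCompl (LocalizedModule.mkLinearMap 𝔪.primeCompl (R ⧸ 𝔠))
    rw [hcomap]
    exact hPass
  have h1 := cm_dim_quotient_eq hNCM PA hPAass
  have h2 := cm_local_dim_eq A hAring PA hPAp.ne_top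
  rw [h1, IsLocalization.AtPrime.ringKrullDim_eq_height 𝔪 A,
    IsLocalization.height_map_of_disjoint 𝔪.primeCompl P hdisj] at h2
  rw [h2, add_comm]

/-- Minimal primes of `𝔠` inside a prime `𝔪` at which `R ⧸ 𝔠` is Cohen–Macaulay all have the same
height. -/
theorem exists_height_add_eq (hCMR : IsCohenMacaulayRing R) (𝔠 𝔪 : Ideal R) [𝔪.IsPrime]
    (h𝔠𝔪 : 𝔠 ≤ 𝔪) [hq : (𝔪.map (Ideal.Quotient.mk 𝔠)).IsPrime]
    (hCM : IsCohenMacaulayLocalRing (Localization.AtPrime (𝔪.map (Ideal.Quotient.mk 𝔠)))) :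
    ∃ D : ℕ, ∀ P ∈ 𝔠.minimalPrimes, P ≤ 𝔪 → P.height + D = 𝔪.height := by
  haveI := hCMR
  haveI : IsNoetherianRing R := inferInstance
  have hNCM : IsCohenMacaulayModule (Localization.AtPrime 𝔪)
      (LocalizedModule 𝔪.primeCompl (R ⧸ 𝔠)) := (cm_localizedModule_quotient_iff 𝔠 𝔪 h𝔠𝔪).mpr hCM
  obtain ⟨D, hD, -⟩ := cm_exists_nat hNCM
  refine ⟨D, fun P hP hP𝔪 => ?_⟩
  have h2 := height_add_supportDim_eq hCMR 𝔠 𝔪 h𝔠𝔪 hCM P hP hP𝔪
  rw [hD] at h2
  have h3 : ((P.height + D : ℕ∞) : WithBot ℕ∞) = ((𝔪.height : ℕ∞) : WithBot ℕ∞) := by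
    rw [← h2]
    push_cast
    rfl
  exact WithBot.coe_injective h3

end Heights

section Main

variable {n : ℕ} {K : Type u} [Field K]

/-- A homogeneous ideal of a polynomial ring with Cohen–Macaulay quotient is unmixed. -/
theorem height_eq_of_mem_associatedPrimes_of_homog (𝔠 : Ideal (MvPolynomial (Fin (n + 1)) K))
    (h𝔠 : 𝔠.IsHomogeneous (GrSyz.stdGr K (Fin (n + 1))))
    [hCM : IsCohenMacaulayRing (MvPolynomial (Fin (n + 1)) K ⧸ 𝔠)]
    (P : Ideal (MvPolynomial (Fin (n + 1)) K))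
    (hP : P ∈ associatedPrimes (MvPolynomial (Fin (n + 1)) K) (MvPolynomial (Fin (n + 1)) K ⧸ 𝔠)) :
    P.height = 𝔠.height := by
  have hCMR : IsCohenMacaulayRing (MvPolynomial (Fin (n + 1)) K) :=
    Groth.Agent.Helper8.CplMap.isCohenMacaulayRing_of_isRegularRing _
  have hPmin : P ∈ 𝔠.minimalPrimes :=
    Groth.Agent.S18866.H18866.mem_minimalPrimes_of_mem_ass_quotient _ 𝔠
      (fun p _ => hCM.isCohenMacaulayLocalRing_localization p) P hP
  set 𝔪 := Groth.Agent.Lib.Helper6.GrCM.irr (Fin (n + 1)) K with h𝔪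
  have h𝔪max : 𝔪.IsMaximal := by
    rw [h𝔪]
    unfold Groth.Agent.Lib.Helper6.GrCM.irr
    exact RingHom.ker_isMaximal_of_surjective _ (fun c => ⟨C c, constantCoeff_C _ c⟩)
  haveI : 𝔪.IsPrime := h𝔪max.isPrime
  have hle : ∀ Q ∈ 𝔠.minimalPrimes, Q ≤ 𝔪 := fun Q hQ => minimalPrimes_le_irr_of_stdGr h𝔠 hQ
  have h𝔠𝔪 : 𝔠 ≤ 𝔪 := hPmin.1.2.trans (hle P hPmin)
  haveI hq : (𝔪.map (Ideal.Quotient.mk 𝔠)).IsPrime := isPrime_map_mk 𝔠 𝔪 h𝔠𝔪
  obtain ⟨D, hD⟩ := exists_height_add_eq hCMR 𝔠 𝔪 h𝔠𝔪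
    (hCM.isCohenMacaulayLocalRing_localization _)
  have hPh := hD P hPmin (hle P hPmin)
  rw [Ideal.height_eq_inf_minimalPrimes 𝔠]
  apply le_antisymm
  · refine le_iInf₂ fun Q hQ => ?_
    have hQh := hD Q hQ (hle Q hQ)
    have : P.height + D = Q.height + D := hPh.trans hQh.symm
    exact (ENat.add_left_injective_of_ne_top (ENat.natCast_ne_top D) this).le
  · exact iInf₂_le P hPmin

end Main

end Groth.Agent.Helper2.CM
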