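import Mathlib
import Groth.Prelude
import Groth.Agent.Lib.Helper2.CM.HomogUnmixed
import Groth.Agent.Lib.Helper8.Goren4

/-!
# Associated primes of ideal quotients; linkage basics (helper2)
-/

set_option autoImplicit false
universe u

namespace Groth.Agent.Helper2.CM

open LocCoh IsLocalRing

variable {R : Type u} [CommRing R] [IsNoetherianRing R]

/-- The associated primes of `R ⧸ (𝔠 : I)` are among those of `R ⧸ 𝔠`. -/
theorem associatedPrimes_colon_subset (𝔠 I : Ideal R) :
    associatedPrimes R (R ⧸ 𝔠.colon (I : Set R)) ⊆ associatedPrimes R (R ⧸ 𝔠) := by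
  classical
  intro P hP
  obtain ⟨hPp, xbar, hx⟩ := (isAssociatedPrime_iff).mp hP
  obtain ⟨x, rfl⟩ := Ideal.Quotient.mk_surjective xbar
  have hmem : ∀ r : R, r ∈ P ↔ ∀ i ∈ I, r * x * i ∈ 𝔠 := by
    intro r
    rw [hx, Submodule.mem_colon_singleton, Submodule.mem_bot]
    have : r • (Ideal.Quotient.mk (𝔠.colon (I : Set R)) x) =
        Ideal.Quotient.mk (𝔠.colon (I : Set R)) (r * x) := by
      rw [Algebra.smul_def]; rfl
    rw [this, Ideal.Quotient.eq_zero_iff_mem, Submodule.mem_colon]
    constructor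
    · intro h i hi
      have := h i hi
      rwa [smul_eq_mul] at this
    · intro h i hi
      have := h i hi
      rwa [smul_eq_mul]
  obtain ⟨s, hs⟩ := (IsNoetherian.noetherian I : I.FG)
  have key : ∃ i ∈ s, ∀ r : R, r * x * i ∈ 𝔠 → r ∈ P := by
    by_contra hcon
    push Not at hcon
    choose! r hr using hcon
    have hprod : (∏ i ∈ s, r i) ∉ P := by
      rw [Ideal.IsPrime.prod_mem_iff]
      rintro ⟨i, hi, hri⟩
      exact (hr i hi).2 hri
    apply hprod
    rw [hmem]
    intro y hy
    rw [← hs] at hy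
    refine Submodule.span_induction (p := fun y _ => (∏ i ∈ s, r i) * x * y ∈ 𝔠) ?_ ?_ ?_ ?_ hy
    · intro i hi
      have hi' : i ∈ s := hi
      rw [← Finset.mul_prod_erase s r hi']
      have := (hr i hi').1
      have h2 : r i * (∏ j ∈ s.erase i, r j) * x * i = (∏ j ∈ s.erase i, r j) * (r i * x * i) := by
        ring
      rw [h2]
      exact Ideal.mul_mem_left _ _ this
    · simp
    · intro a b _ _ ha hb
      rw [mul_add]
      exact Ideal.add_mem _ ha hb
    · intro a b _ hb
      rw [smul_eq_mul]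
      have : (∏ i ∈ s, r i) * x * (a * b) = a * ((∏ i ∈ s, r i) * x * b) := by ring
      rw [this]
      exact Ideal.mul_mem_left _ _ hb
  obtain ⟨i, his, hi⟩ := key
  have hiI : i ∈ I := by
    rw [← hs]
    exact Submodule.subset_span his
  refine (isAssociatedPrime_iff).mpr ⟨hPp, Ideal.Quotient.mk 𝔠 (x * i), ?_⟩
  ext r
  rw [Submodule.mem_colon_singleton, Submodule.mem_bot]
  have : r • (Ideal.Quotient.mk 𝔠 (x * i)) = Ideal.Quotient.mk 𝔠 (r * x * i) := by
    rw [Algebra.smul_def, mul_assoc]; rfl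
  rw [this, Ideal.Quotient.eq_zero_iff_mem]
  exact ⟨fun h => (hmem r).mp h i hiI, hi r⟩

/-- If every associated prime of `R ⧸ J` has height `c` and `J ≠ ⊤`, then `J` has height `c`. -/
theorem height_eq_of_forall_associatedPrimes (J : Ideal R) (hJ : J ≠ ⊤) (c : ℕ∞)
    (h : ∀ p ∈ associatedPrimes R (R ⧸ J), p.height = c) : J.height = c := by
  have hsub : J.minimalPrimes ⊆ associatedPrimes R (R ⧸ J) := by
    have := Module.associatedPrimes.minimalPrimes_annihilator_subset_associatedPrimes R (R ⧸ J)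
    rwa [Ideal.annihilator_quotient] at this
  obtain ⟨m, hm, hJm⟩ := Ideal.exists_le_maximal J hJ
  obtain ⟨Q, hQ, -⟩ := Ideal.exists_minimalPrimes_le (I := J) (J := m) hJm
  rw [Ideal.height_eq_inf_minimalPrimes J]
  apply le_antisymm
  · exact (iInf₂_le Q hQ).trans (h Q (hsub hQ)).le
  · exact le_iInf₂ fun Q' hQ' => (h Q' (hsub hQ')).ge

end Groth.Agent.Helper2.CM
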