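import Mathlib
import Groth.Prelude
import Groth.Agent.Lib.Helper2.CM.HomogUnmixed
import Groth.Agent.Lib.Helper2.Gor.LinkCMGlobal
import Groth.Agent.Lib.Helper8.ABS9
import Groth.Agent.Lib.Helper8.ABS14
import Groth.Agent.Lib.Helper8.ABS19
import Groth.Agent.Lib.Helper8.ABS3
import Groth.Agent.Lib.Helper8.ExtLoc4
import Groth.Agent.Lib.Helper8.CplMap3

/-!
# The Cohen–Macaulay locus of a quotient of a regular ring of finite dimension is open (helper2)
-/

set_option autoImplicit false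
universe u

namespace Groth.Agent.Helper2.CM

open LocCoh IsLocalRing CategoryTheory Abelian Groth.Agent.Helper8.Depth
  Groth.Agent.Helper8.ABS Groth.Agent.Helper2.Gor

section Local

variable (P : Type u) [CommRing P] [hreg : IsRegularRing P] (I : Ideal P)

/-- at a Cohen–Macaulay point `Q` of `P/I`, the minimal primes of `I` inside `Q` have a common
height `c` and `Ext^i((P/I)_Q, P_Q) = 0` for `i > c` -/
theorem exists_height_ext_vanishing (Q : Ideal P) [hQ : Q.IsPrime] (hIQ : I ≤ Q)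
    [hq : (Q.map (Ideal.Quotient.mk I)).IsPrime]
    (hCM : IsCohenMacaulayLocalRing (Localization.AtPrime (Q.map (Ideal.Quotient.mk I)))) :
    ∃ c : ℕ, (∀ 𝔭 ∈ I.minimalPrimes, 𝔭 ≤ Q → 𝔭.height = c) ∧
      ∀ i, c < i → Subsingleton (Ext
        (ModuleCat.of (Localization.AtPrime Q) (LocalizedModule Q.primeCompl (P ⧸ I)))
        (ModuleCat.of (Localization.AtPrime Q) (Localization.AtPrime Q)) i) := by
  have hCMR : IsCohenMacaulayRing P :=
    Groth.Agent.Helper8.CplMap.isCohenMacaulayRing_of_isRegularRing P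
  haveI hAloc : IsCohenMacaulayLocalRing (Localization.AtPrime Q) :=
    hCMR.isCohenMacaulayLocalRing_localization Q
  have hNCM : IsCohenMacaulayModule (Localization.AtPrime Q)
      (LocalizedModule Q.primeCompl (P ⧸ I)) := (cm_localizedModule_quotient_iff I Q hIQ).mpr hCM
  obtain ⟨D, hD, hD'⟩ := cm_exists_nat hNCM
  haveI hnt := cm_nontrivial hNCM
  obtain ⟨d, hd⟩ := Groth.Agent.Helper8.GorFlat.exists_dim_eq (R := Localization.AtPrime Q)
  have hpd := hasProjectiveDimensionLT_of_regular_finite d (Localization.AtPrime Q) hd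
    (LocalizedModule Q.primeCompl (P ⧸ I))
  obtain ⟨e, -, he⟩ := exists_projectiveDimension_eq (LocalizedModule Q.primeCompl (P ⧸ I)) d hpd
  have hab := auslander_buchsbaum (Localization.AtPrime Q)
    (LocalizedModule Q.primeCompl (P ⧸ I)) e he
  rw [depth_self_eq_of_cm _ d hd, hD'] at hab
  have hdeD : d = e + D := by exact_mod_cast hab
  refine ⟨e, fun 𝔭 h𝔭 h𝔭Q => ?_, fun i hi => ?_⟩
  · have h1 := height_add_supportDim_eq hCMR I Q hIQ hCM 𝔭 h𝔭 h𝔭Q
    rw [hD, ← IsLocalization.AtPrime.ringKrullDim_eq_height Q (Localization.AtPrime Q), hd,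
      hdeD] at h1
    haveI : 𝔭.IsPrime := h𝔭.1.1
    obtain ⟨h, hh⟩ := ENat.ne_top_iff_exists.mp (Ideal.height_ne_top (Ideal.IsPrime.ne_top ‹_›) :
      𝔭.height ≠ ⊤)
    rw [← hh] at h1 ⊢
    have h2 : ((h + D : ℕ) : WithBot ℕ∞) = ((e + D : ℕ) : WithBot ℕ∞) := by
      push_cast
      exact h1
    have h3 : h + D = e + D := by exact_mod_cast h2
    have : h = e := by omega
    rw [this]
  · haveI h1 : HasProjectiveDimensionLT (ModuleCat.of (Localization.AtPrime Q)
        (LocalizedModule Q.primeCompl (P ⧸ I))) (e + 1) :=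
      (projectiveDimension_le_iff _ e).mp he.le
    exact HasProjectiveDimensionLT.subsingleton _ (e + 1) i (by omega) _

/-- conversely, if the minimal primes of `I` inside `Q'` all have height `c` and
`Ext^i((P/I)_{Q'}, P_{Q'}) = 0` for `i > c`, then `Q'` is a Cohen–Macaulay point of `P/I` -/
theorem cm_of_height_ext_vanishing (Q' : Ideal P) [hQ' : Q'.IsPrime] (hIQ : I ≤ Q') (c : ℕ)
    (hmin : ∀ 𝔭 ∈ I.minimalPrimes, 𝔭 ≤ Q' → 𝔭.height = c)
    (hext : ∀ i, c < i → Subsingleton (Ext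
        (ModuleCat.of (Localization.AtPrime Q') (LocalizedModule Q'.primeCompl (P ⧸ I)))
        (ModuleCat.of (Localization.AtPrime Q') (Localization.AtPrime Q')) i)) :
    IsCohenMacaulayModule (Localization.AtPrime Q') (LocalizedModule Q'.primeCompl (P ⧸ I)) := by
  have hCMR : IsCohenMacaulayRing P :=
    Groth.Agent.Helper8.CplMap.isCohenMacaulayRing_of_isRegularRing P
  haveI hAloc : IsCohenMacaulayLocalRing (Localization.AtPrime Q') :=
    hCMR.isCohenMacaulayLocalRing_localization Q'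
  have hAring : IsCohenMacaulayRing (Localization.AtPrime Q') :=
    isCohenMacaulayRing_of_isLocalization Q'.primeCompl hCMR
  set J' := I.map (algebraMap P (Localization.AtPrime Q')) with hJ'
  have hJ'le : J' ≤ maximalIdeal (Localization.AtPrime Q') := by
    rw [← Localization.AtPrime.map_eq_maximalIdeal]
    exact Ideal.map_mono hIQ
  have hJ'top : J' ≠ ⊤ := fun h =>
    (maximalIdeal.isMaximal (Localization.AtPrime Q')).ne_top (top_le_iff.mp (h ▸ hJ'le))
  haveI : Nontrivial (Localization.AtPrime Q' ⧸ J') := Ideal.Quotient.nontrivial_iff.mpr hJ'top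
  let eq := quotLocEquiv Q' I
  haveI hnt : Nontrivial (LocalizedModule Q'.primeCompl (P ⧸ I)) := eq.toEquiv.nontrivial
  obtain ⟨d', hd'⟩ := Groth.Agent.Helper8.GorFlat.exists_dim_eq (R := Localization.AtPrime Q')
  have hpd := hasProjectiveDimensionLT_of_regular_finite d' (Localization.AtPrime Q') hd'
    (LocalizedModule Q'.primeCompl (P ⧸ I))
  have hpd2 := hasProjectiveDimensionLT_of_forall_ext_self
    (LocalizedModule Q'.primeCompl (P ⧸ I)) (d' + 1) c hpd hext
  obtain ⟨e, hec, he⟩ := exists_projectiveDimension_eq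
    (LocalizedModule Q'.primeCompl (P ⧸ I)) c hpd2
  have hab := auslander_buchsbaum (Localization.AtPrime Q')
    (LocalizedModule Q'.primeCompl (P ⧸ I)) e he
  rw [depth_self_eq_of_cm _ d' hd'] at hab
  obtain ⟨t, ht⟩ := ENat.ne_top_iff_exists.mp (idealDepth_ne_top
    (smul_top_ne_top_of_local (Localization.AtPrime Q') (LocalizedModule Q'.primeCompl (P ⧸ I))))
  have ht' : depth (Localization.AtPrime Q') (LocalizedModule Q'.primeCompl (P ⧸ I)) = t :=
    ht.symm
  rw [ht'] at hab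
  have hdet : d' = e + t := by exact_mod_cast hab
  obtain ⟨m, hm⟩ := exists_nat_supportDim (A := Localization.AtPrime Q')
    (LocalizedModule Q'.primeCompl (P ⧸ I))
  have hdim := cm_local_dim_eq (Localization.AtPrime Q') hAring J' hJ'top
  have hm' : ringKrullDim (Localization.AtPrime Q' ⧸ J') = m := by
    rw [← Module.supportDim_quotient_eq_ringKrullDim, ← Module.supportDim_eq_of_equiv eq, hm]
  rw [hd', hm'] at hdim
  -- `c ≤ ht J'`
  have hc : (c : ℕ∞) ≤ J'.height := by
    rw [Ideal.height_eq_inf_minimalPrimes]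
    refine le_iInf₂ fun 𝔮 h𝔮 => ?_
    haveI h𝔮p : 𝔮.IsPrime := h𝔮.1.1
    have h1 : 𝔮.under P ∈ I.minimalPrimes := by
      rw [hJ', IsLocalization.minimalPrimes_map Q'.primeCompl] at h𝔮
      exact h𝔮
    have h2 : 𝔮.under P ≤ Q' := by
      have h3 : 𝔮 ≤ maximalIdeal (Localization.AtPrime Q') := le_maximalIdeal h𝔮p.ne_top
      have h4 := Ideal.comap_mono (f := algebraMap P (Localization.AtPrime Q')) h3
      have h5 : (maximalIdeal (Localization.AtPrime Q')).comap
          (algebraMap P (Localization.AtPrime Q')) = Q' :=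
        IsLocalization.AtPrime.under_maximalIdeal (Localization.AtPrime Q') Q'
      rw [h5] at h4
      exact h4
    rw [← IsLocalization.height_under Q'.primeCompl 𝔮, hmin _ h1 h2]
  obtain ⟨h₀, hh₀⟩ : ∃ h₀ : ℕ, J'.height = h₀ := by
    rcases ENat.ne_top_iff_exists.mp (Ideal.height_ne_top hJ'top) with ⟨h₀, hh₀⟩
    exact ⟨h₀, hh₀.symm⟩
  rw [hh₀] at hdim hc
  have hdim' : d' = m + h₀ := by exact_mod_cast hdim
  have hc' : c ≤ h₀ := by exact_mod_cast hc
  have hle : ((t : ℕ∞) : WithBot ℕ∞) ≤ Module.supportDim (Localization.AtPrime Q')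
      (LocalizedModule Q'.primeCompl (P ⧸ I)) := by
    rw [← ht']
    exact depth_le_supportDim
  rw [hm] at hle
  have hle' : t ≤ m := by exact_mod_cast hle
  have hmt : m = t := by omega
  unfold IsCohenMacaulayModule
  rw [hm, ht', hmt]
  rfl

end Local

section Aux

variable {P : Type u} [CommRing P]

lemma exists_notMem_forall_smul_eq_zero (Q : Ideal P) [hQ : Q.IsPrime] (M : Type*)
    [AddCommGroup M] [Module P M] [Module.Finite P M]
    (h : ∀ x : M, ∃ s : P, s ∉ Q ∧ s • x = 0) : ∃ s : P, s ∉ Q ∧ ∀ x : M, s • x = 0 := by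
  have h1 : (⟨Q, hQ⟩ : PrimeSpectrum P) ∉ Module.support P M := by
    rw [Module.notMem_support_iff']
    exact h
  rw [Module.mem_support_iff_of_finite, SetLike.not_le_iff_exists] at h1
  obtain ⟨s, hs, hsQ⟩ := h1
  exact ⟨s, hsQ, fun x => Module.mem_annihilator.mp hs x⟩

lemma exists_notMem_forall_minimalPrimes [IsNoetherianRing P] (I Q : Ideal P) [hQ : Q.IsPrime] :
    ∃ g : P, g ∉ Q ∧ ∀ 𝔭 ∈ I.minimalPrimes, ¬ 𝔭 ≤ Q → g ∈ 𝔭 := by
  classical
  have hfin : I.minimalPrimes.Finite := Ideal.finite_minimalPrimes_of_isNoetherianRing P I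
  have hex : ∀ 𝔭 : Ideal P, ∃ g : P, g ∉ Q ∧ (¬ 𝔭 ≤ Q → g ∈ 𝔭) := by
    intro 𝔭
    by_cases h : 𝔭 ≤ Q
    · exact ⟨1, fun h1 => hQ.ne_top ((Ideal.eq_top_iff_one Q).mpr h1), fun h' => absurd h h'⟩
    · obtain ⟨g, hg, hgQ⟩ := SetLike.not_le_iff_exists.mp h
      exact ⟨g, hgQ, fun _ => hg⟩
  choose gf hgQ hg𝔭 using hex
  refine ⟨∏ 𝔭 ∈ hfin.toFinset, gf 𝔭, ?_, ?_⟩
  · intro h
    obtain ⟨𝔭, -, h𝔭⟩ := (Ideal.IsPrime.prod_mem_iff).mp h
    exact hgQ 𝔭 h𝔭
  · intro 𝔭 h𝔭 hle
    have hmem : 𝔭 ∈ hfin.toFinset := hfin.mem_toFinset.mpr h𝔭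
    exact Ideal.mem_of_dvd _ (Finset.dvd_prod_of_mem gf hmem) (hg𝔭 𝔭 hle)

end Aux

section Global

variable (P : Type u) [CommRing P] [hreg : IsRegularRing P] (I : Ideal P)

/-- Cohen–Macaulayness of the local ring of `P/I` at `q` in terms of the localized module over
`P` -/
lemma cm_atPrime_iff (Q : Ideal P) [hQ : Q.IsPrime] (hIQ : I ≤ Q) (q : Ideal (P ⧸ I))
    [hq : q.IsPrime] (hqQ : q = Q.map (Ideal.Quotient.mk I)) :
    IsCohenMacaulayLocalRing (Localization.AtPrime q) ↔
      IsCohenMacaulayModule (Localization.AtPrime Q) (LocalizedModule Q.primeCompl (P ⧸ I)) := by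
  subst hqQ
  exact (cm_localizedModule_quotient_iff I Q hIQ).symm

theorem isOpen_cm_locus (N₀ : ℕ) (hN₀ : ringKrullDim P ≤ N₀) :
    IsOpen {q : PrimeSpectrum (P ⧸ I) |
      IsCohenMacaulayLocalRing (Localization.AtPrime q.asIdeal)} := by
  classical
  haveI : IsNoetherianRing P := inferInstance
  rw [isOpen_iff_forall_mem_open]
  intro q hq
  rw [Set.mem_ofPred_eq] at hq
  set Q := q.asIdeal.comap (Ideal.Quotient.mk I) with hQdef
  haveI hQp : Q.IsPrime := Ideal.comap_isPrime _ _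
  have hIQ : I ≤ Q := by
    intro y hy
    rw [hQdef, Ideal.mem_comap, Ideal.Quotient.eq_zero_iff_mem.mpr hy]
    exact q.asIdeal.zero_mem
  have hmap : Q.map (Ideal.Quotient.mk I) = q.asIdeal :=
    Ideal.map_comap_of_surjective _ Ideal.Quotient.mk_surjective q.asIdeal
  haveI hqm : (Q.map (Ideal.Quotient.mk I)).IsPrime := by rw [hmap]; exact q.isPrime
  have hCMQ : IsCohenMacaulayLocalRing (Localization.AtPrime (Q.map (Ideal.Quotient.mk I))) :=
    (cm_localizedModule_quotient_iff I Q hIQ).mp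
      ((cm_atPrime_iff P I Q hIQ q.asIdeal hmap.symm).mp hq)
  obtain ⟨c, hmin, hext⟩ := exists_height_ext_vanishing P I Q hIQ hCMQ
  -- the Ext modules over `P` are killed locally at `Q`
  have hloc : ∀ i, c < i → ∀ x : Ext (ModuleCat.of P (P ⧸ I)) (ModuleCat.of P P) i,
      ∃ s : Q.primeCompl, (s : P) • x = 0 := fun i hi =>
    (Groth.Agent.Helper8.ExtLoc.subsingleton_ext_loc_iff Q.primeCompl i (P ⧸ I) P).mp (hext i hi)
  have hs : ∀ i, ∃ s : P, s ∉ Q ∧ (c < i → ∀ x : Ext (ModuleCat.of P (P ⧸ I))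
      (ModuleCat.of P P) i, s • x = 0) := by
    intro i
    by_cases hi : c < i
    · obtain ⟨s, hs, h⟩ := exists_notMem_forall_smul_eq_zero Q
        (Ext (ModuleCat.of P (P ⧸ I)) (ModuleCat.of P P) i)
        (fun x => by
          obtain ⟨s, h⟩ := hloc i hi x
          exact ⟨s, s.2, h⟩)
      exact ⟨s, hs, fun _ => h⟩
    · exact ⟨1, fun h1 => hQp.ne_top ((Ideal.eq_top_iff_one Q).mpr h1), fun h => absurd h hi⟩
  choose sf hsQ hsx using hs
  set s := ∏ i ∈ Finset.range (N₀ + 1), sf i with hsdef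
  have hsQ' : s ∉ Q := by
    intro h
    obtain ⟨i, -, hi⟩ := (Ideal.IsPrime.prod_mem_iff).mp h
    exact hsQ i hi
  have hskill : ∀ i, c < i → i ≤ N₀ → ∀ x : Ext (ModuleCat.of P (P ⧸ I))
      (ModuleCat.of P P) i, s • x = 0 := by
    intro i hi hiN x
    have hmem : i ∈ Finset.range (N₀ + 1) := Finset.mem_range.mpr (by omega)
    rw [hsdef, ← Finset.prod_erase_mul _ _ hmem, mul_smul, hsx i hi x, smul_zero]
  obtain ⟨g, hgQ, hg⟩ := exists_notMem_forall_minimalPrimes I Q
  refine ⟨(PrimeSpectrum.basicOpen (Ideal.Quotient.mk I (s * g)) :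
    Set (PrimeSpectrum (P ⧸ I))), ?_, (PrimeSpectrum.basicOpen _).isOpen, ?_⟩
  · intro q' hq'
    rw [SetLike.mem_coe, PrimeSpectrum.mem_basicOpen] at hq'
    rw [Set.mem_ofPred_eq]
    set Q' := q'.asIdeal.comap (Ideal.Quotient.mk I) with hQ'def
    haveI hQ'p : Q'.IsPrime := Ideal.comap_isPrime _ _
    have hIQ' : I ≤ Q' := by
      intro y hy
      rw [hQ'def, Ideal.mem_comap, Ideal.Quotient.eq_zero_iff_mem.mpr hy]
      exact q'.asIdeal.zero_mem
    have hmap' : Q'.map (Ideal.Quotient.mk I) = q'.asIdeal :=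
      Ideal.map_comap_of_surjective _ Ideal.Quotient.mk_surjective q'.asIdeal
    rw [cm_atPrime_iff P I Q' hIQ' q'.asIdeal hmap'.symm]
    have hsg : s * g ∉ Q' := hq'
    have hsQ'' : s ∉ Q' := fun h => hsg (Ideal.mul_mem_right _ _ h)
    have hgQ'' : g ∉ Q' := fun h => hsg (Ideal.mul_mem_left _ _ h)
    refine cm_of_height_ext_vanishing P I Q' hIQ' c ?_ ?_
    · intro 𝔭 h𝔭 h𝔭Q'
      by_cases hle : 𝔭 ≤ Q
      · exact hmin 𝔭 h𝔭 hle
      · exact absurd (h𝔭Q' (hg 𝔭 h𝔭 hle)) hgQ''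
    · intro i hi
      by_cases hiN : i ≤ N₀
      · exact (Groth.Agent.Helper8.ExtLoc.subsingleton_ext_loc_iff Q'.primeCompl i (P ⧸ I) P).mpr
          (fun x => ⟨⟨s, hsQ''⟩, hskill i hi hiN x⟩)
      · obtain ⟨d', hd'⟩ := Groth.Agent.Helper8.GorFlat.exists_dim_eq
          (R := Localization.AtPrime Q')
        haveI hpd := hasProjectiveDimensionLT_of_regular_finite d' (Localization.AtPrime Q') hd'
          (LocalizedModule Q'.primeCompl (P ⧸ I))
        have hd'N : d' ≤ N₀ := by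
          have h1 : ringKrullDim (Localization.AtPrime Q') ≤ ringKrullDim P := by
            rw [IsLocalization.AtPrime.ringKrullDim_eq_height Q']
            exact Ideal.height_le_ringKrullDim_of_ne_top hQ'p.ne_top
          rw [hd'] at h1
          exact_mod_cast h1.trans hN₀
        exact HasProjectiveDimensionLT.subsingleton _ (d' + 1) i (by omega) _
  · rw [SetLike.mem_coe, PrimeSpectrum.mem_basicOpen]
    change s * g ∉ Q
    intro h
    rcases hQp.mem_or_mem h with h | h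
    · exact hsQ' h
    · exact hgQ h

end Global

end Groth.Agent.Helper2.CM
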