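import Mathlib
import Groth.Prelude
import Groth.Agent.Lib.Helper2.CM.HomogUnmixed
import Groth.Agent.Lib.Helper8.Depth22
import Groth.Agent.Lib.Helper8.Depth29

/-!
# Basic double links (helper2)

The exact sequence `0 → R/I → R/(J + fI) → R/(J + fR) → 0` and the associated primes of
`R/(J + fR)` for a Cohen–Macaulay `R/J`.
-/

set_option autoImplicit false
universe u

namespace Groth.Agent.Helper2.CM

open LocCoh IsLocalRing Groth.Agent.Helper8.Depth
open scoped Pointwise

section Ses

variable {R : Type u} [CommRing R] (J I : Ideal R) (f : R)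

/-- multiplication by `f` from `R/I` to `R/(J + fI)` -/
noncomputable def dlMul : (R ⧸ I) →ₗ[R] (R ⧸ (J ⊔ Ideal.span {f} * I)) :=
  Submodule.liftQ I ((Submodule.mkQ (J ⊔ Ideal.span {f} * I)).comp (LinearMap.lsmul R R f)) (by
    intro r hr
    rw [LinearMap.mem_ker, LinearMap.comp_apply, LinearMap.lsmul_apply, Submodule.mkQ_apply,
      Submodule.Quotient.mk_eq_zero, smul_eq_mul]
    exact Ideal.mem_sup_right (Ideal.mul_mem_mul (Ideal.mem_span_singleton_self f) hr))

@[simp] lemma dlMul_mk (r : R) :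
    dlMul J I f (Submodule.Quotient.mk r) = Submodule.Quotient.mk (f * r) := rfl

/-- the projection from `R/(J + fI)` to `R/(J + fR)` -/
noncomputable def dlProj : (R ⧸ (J ⊔ Ideal.span {f} * I)) →ₗ[R] (R ⧸ (J ⊔ Ideal.span {f})) :=
  Submodule.liftQ _ (Submodule.mkQ (J ⊔ Ideal.span {f})) (by
    rw [Submodule.ker_mkQ]
    exact sup_le_sup_left Ideal.mul_le_left J)

@[simp] lemma dlProj_mk (r : R) :
    dlProj J I f (Submodule.Quotient.mk r) = Submodule.Quotient.mk r := rfl

lemma dlProj_surjective : Function.Surjective (dlProj J I f) := by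
  intro x
  obtain ⟨r, rfl⟩ := Submodule.Quotient.mk_surjective _ x
  exact ⟨Submodule.Quotient.mk r, rfl⟩

lemma dlMul_injective (hJI : J ≤ I) (hJf : J.colon {f} = J) :
    Function.Injective (dlMul J I f) := by
  rw [injective_iff_map_eq_zero]
  intro x hx
  obtain ⟨r, rfl⟩ := Submodule.Quotient.mk_surjective _ x
  rw [dlMul_mk, Submodule.Quotient.mk_eq_zero] at hx
  rw [Submodule.Quotient.mk_eq_zero]
  obtain ⟨j, hj, y, hy, hjy⟩ := Submodule.mem_sup.mp hx
  -- `y ∈ (f) * I` means `y = f * i`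
  obtain ⟨i, hi, rfl⟩ : ∃ i ∈ I, f * i = y := Ideal.mem_span_singleton_mul.mp hy
  have h1 : r - i ∈ J.colon {f} := by
    rw [Submodule.mem_colon_singleton, smul_eq_mul]
    have : (r - i) * f = j := by
      have : j = f * r - f * i := by rw [← hjy]; ring
      rw [this]; ring
    rw [this]
    exact hj
  rw [hJf] at h1
  have : r = (r - i) + i := by ring
  rw [this]
  exact I.add_mem (hJI h1) hi

lemma dl_exact : Function.Exact (dlMul J I f) (dlProj J I f) := by
  intro y
  obtain ⟨r, rfl⟩ := Submodule.Quotient.mk_surjective _ y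
  rw [dlProj_mk, Submodule.Quotient.mk_eq_zero]
  constructor
  · intro hr
    obtain ⟨j, hj, y, hy, hjy⟩ := Submodule.mem_sup.mp hr
    obtain ⟨s, rfl⟩ := Ideal.mem_span_singleton'.mp hy
    refine ⟨Submodule.Quotient.mk s, ?_⟩
    rw [dlMul_mk, ← sub_eq_zero, ← Submodule.Quotient.mk_sub, Submodule.Quotient.mk_eq_zero]
    have : f * s - r = -j := by rw [← hjy]; ring
    rw [this]
    exact Ideal.mem_sup_left (J.neg_mem hj)
  · rintro ⟨x, hx⟩
    obtain ⟨s, rfl⟩ := Submodule.Quotient.mk_surjective _ x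
    rw [dlMul_mk, ← sub_eq_zero, ← Submodule.Quotient.mk_sub, Submodule.Quotient.mk_eq_zero] at hx
    have h1 : J ⊔ Ideal.span {f} * I ≤ J ⊔ Ideal.span {f} := sup_le_sup_left Ideal.mul_le_left J
    have h2 := h1 hx
    have h3 : f * s ∈ J ⊔ Ideal.span {f} :=
      Ideal.mem_sup_right (Ideal.mem_span_singleton'.mpr ⟨s, mul_comm _ _⟩)
    have : r = f * s - (f * s - r) := by ring
    rw [this]
    exact Ideal.sub_mem _ h3 h2

end Ses

section KL

variable {R : Type u} [CommRing R]

/-- the composite `R → R/J → (R/J)/f(R/J)` -/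
noncomputable def toQuotSMulTop (J : Ideal R) (f : R) : R →ₗ[R] QuotSMulTop f (R ⧸ J) :=
  (Submodule.mkQ (f • (⊤ : Submodule R (R ⧸ J)))).comp (Submodule.mkQ J)

lemma toQuotSMulTop_surjective (J : Ideal R) (f : R) :
    Function.Surjective (toQuotSMulTop J f) := by
  unfold toQuotSMulTop
  rw [LinearMap.coe_comp]
  exact (Submodule.mkQ_surjective _).comp (Submodule.mkQ_surjective _)

lemma ker_toQuotSMulTop (J : Ideal R) (f : R) :
    LinearMap.ker (toQuotSMulTop J f) = J ⊔ Ideal.span {f} := by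
  ext r
  rw [LinearMap.mem_ker, toQuotSMulTop, LinearMap.comp_apply, Submodule.mkQ_apply,
    Submodule.mkQ_apply, Submodule.Quotient.mk_eq_zero, Submodule.mem_smul_pointwise_iff_exists]
  constructor
  · rintro ⟨m, -, hm⟩
    obtain ⟨s, rfl⟩ := Submodule.Quotient.mk_surjective _ m
    rw [← Submodule.Quotient.mk_smul, ← sub_eq_zero, ← Submodule.Quotient.mk_sub,
      Submodule.Quotient.mk_eq_zero, smul_eq_mul] at hm
    have : r = f * s - (f * s - r) := by ring
    rw [this]
    exact Ideal.sub_mem _ (Ideal.mem_sup_right (Ideal.mem_span_singleton'.mpr ⟨s, mul_comm _ _⟩))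
      (Ideal.mem_sup_left hm)
  · intro hr
    obtain ⟨j, hj, y, hy, rfl⟩ := Submodule.mem_sup.mp hr
    obtain ⟨s, rfl⟩ := Ideal.mem_span_singleton'.mp hy
    refine ⟨Submodule.Quotient.mk s, Submodule.mem_top, ?_⟩
    rw [← Submodule.Quotient.mk_smul, ← sub_eq_zero, ← Submodule.Quotient.mk_sub,
      Submodule.Quotient.mk_eq_zero, smul_eq_mul]
    have : f * s - (j + s * f) = -j := by ring
    rw [this]
    exact J.neg_mem hj

/-- `R/(J + fR)` is `(R/J)/f(R/J)`. -/
noncomputable def quotSupSpanEquiv (J : Ideal R) (f : R) :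
    (R ⧸ (J ⊔ Ideal.span {f})) ≃ₗ[R] QuotSMulTop f (R ⧸ J) :=
  (Submodule.quotEquivOfEq _ _ (ker_toQuotSMulTop J f).symm).trans
    ((toQuotSMulTop J f).quotKerEquivOfSurjective (toQuotSMulTop_surjective J f))

lemma isSMulRegular_quotient_of_colon (J : Ideal R) (f : R) (hJf : J.colon {f} = J) :
    IsSMulRegular (R ⧸ J) f := by
  intro a b hab
  have h0 : f • (a - b) = 0 := by
    have : f • a = f • b := hab
    rw [smul_sub, this, sub_self]
  obtain ⟨r, hr⟩ := Submodule.Quotient.mk_surjective _ (a - b)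
  rw [← hr, ← Submodule.Quotient.mk_smul, Submodule.Quotient.mk_eq_zero, smul_eq_mul] at h0
  have h1 : r ∈ J.colon {f} := by
    rw [Submodule.mem_colon_singleton, smul_eq_mul, mul_comm]
    exact h0
  rw [hJf] at h1
  have h2 : a - b = 0 := by
    rw [← hr]
    exact (Submodule.Quotient.mk_eq_zero _).mpr h1
  exact sub_eq_zero.mp h2

/-- **Key lemma**: associated primes of `R/(J + fR)` have height `ht J + 1` when `R/J` is
Cohen–Macaulay with all minimal primes of height `h` and `f` is regular on `R/J`. -/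
theorem height_eq_succ_of_mem_associatedPrimes_quot (hCMR : IsCohenMacaulayRing R) (J : Ideal R)
    (f : R) (hCMJ : IsCohenMacaulayRing (R ⧸ J)) (h : ℕ)
    (hmin : ∀ Q ∈ J.minimalPrimes, Q.height = h) (hJf : J.colon {f} = J) (P : Ideal R)
    (hP : P ∈ associatedPrimes R (R ⧸ (J ⊔ Ideal.span {f}))) : P.height = h + 1 := by
  haveI := hCMR
  haveI : IsNoetherianRing R := inferInstance
  haveI hPp : P.IsPrime := hP.isPrime
  have hle : J ⊔ Ideal.span {f} ≤ P := by
    intro x hx
    have h1 : x ∈ Module.annihilator R (R ⧸ (J ⊔ Ideal.span {f})) := by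
      rw [Ideal.annihilator_quotient]; exact hx
    have h2 : Module.annihilator R (R ⧸ (J ⊔ Ideal.span {f})) ≤ P := by
      rw [← Submodule.annihilator_top]
      exact IsAssociatedPrime.annihilator_le hP
    exact h2 h1
  have hJP : J ≤ P := le_sup_left.trans hle
  have hfP : f ∈ P := hle (Ideal.mem_sup_right (Ideal.mem_span_singleton_self f))
  have hP' : P ∈ associatedPrimes R (QuotSMulTop f (R ⧸ J)) := by
    rw [← LinearEquiv.AssociatedPrimes.eq (quotSupSpanEquiv J f)]
    exact hP
  haveI hq : (P.map (Ideal.Quotient.mk J)).IsPrime := isPrime_map_mk J P hJP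
  have hNCM : IsCohenMacaulayModule (Localization.AtPrime P)
      (LocalizedModule P.primeCompl (R ⧸ J)) :=
    (cm_localizedModule_quotient_iff J P hJP).mpr (hCMJ.isCohenMacaulayLocalRing_localization _)
  haveI hnt : Nontrivial (LocalizedModule P.primeCompl (R ⧸ J)) := cm_nontrivial hNCM
  have hreg := isSMulRegular_quotient_of_colon J f hJf
  have hd0 := (depth_localizedModule_eq_zero_iff P (QuotSMulTop f (R ⧸ J))).mpr hP'
  have hd1 := depth_localizedModule_quotSMulTop P (R ⧸ J) hfP hreg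
  rw [hd0, zero_add] at hd1
  have hdim : Module.supportDim (Localization.AtPrime P)
      (LocalizedModule P.primeCompl (R ⧸ J)) = 1 := by
    have := hNCM
    unfold IsCohenMacaulayModule at this
    rw [this, ← hd1]
    rfl
  obtain ⟨Q, hQ, hQP⟩ := Ideal.exists_minimalPrimes_le hJP
  have h2 := height_add_supportDim_eq hCMR J P hJP
    (hCMJ.isCohenMacaulayLocalRing_localization _) Q hQ hQP
  rw [hdim, hmin Q hQ] at h2
  have h3 : ((P.height : ℕ∞) : WithBot ℕ∞) = (((h : ℕ∞) + 1 : ℕ∞) : WithBot ℕ∞) := by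
    rw [← h2]
    push_cast
    rfl
  exact WithBot.coe_injective h3

end KL

end Groth.Agent.Helper2.CM
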