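import Mathlib
import Groth.Prelude
import Groth.Agent.Lib.Helper2.CM.DoubleLink
import Groth.Agent.Lib.Helper8.LC17
import Groth.Agent.Lib.Helper9.GrMod.Unique
import Groth.Agent.Lib.Helper4.DimFT1

/-!
# Local cohomology of basic double links (helper2)

For the basic double link `Ĩ = J + fI` the local cohomology modules `H^i_𝔪(R/Ĩ)` and
`H^i_𝔪(R/I)` agree for `i < dim R/I`.
-/

set_option autoImplicit false
universe u

namespace Groth.Agent.Helper2.CM

open LocCoh IsLocalRing Groth.Agent.Helper8.Depth Groth.Agent.Helper8.LC CategoryTheory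
open scoped Pointwise

section General

variable {R : Type u} [CommRing R] (𝔪 : Ideal R) (i : ℕ)

/-- If `H^i(X₃)` and `H^{i-1}(X₃)` vanish, `H^i(X₁) → H^i(X₂)` is bijective. -/
theorem lc_map_f_bijective {S : ShortComplex (ModuleCat.{u} R)} (hS : S.ShortExact)
    (h0 : Subsingleton ((localCohomology 𝔪 i).obj S.X₃))
    (h1 : ∀ j, j + 1 = i → Subsingleton ((localCohomology 𝔪 j).obj S.X₃)) :
    Function.Bijective ((localCohomology 𝔪 i).map S.f).hom := by
  constructor
  · rcases Nat.eq_zero_or_eq_succ_pred i with hi | hi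
    · subst hi
      exact map_f_injective_zero 𝔪 hS
    · obtain ⟨j, rfl⟩ : ∃ j, i = j + 1 := ⟨i - 1, hi⟩
      haveI := h1 j rfl
      rw [injective_iff_map_eq_zero]
      intro x hx
      obtain ⟨y, rfl⟩ := (exact_δ_f 𝔪 j hS x).mp hx
      have hy : y = 0 := Subsingleton.elim _ _
      rw [hy, map_zero]
  · intro y
    have hy : ((localCohomology 𝔪 i).map S.g) y = 0 := Subsingleton.elim _ _
    exact (exact_f_g 𝔪 i hS y).mp hy

variable (J I : Ideal R) (f : R)

/-- the short complex `R/I → R/(J + fI) → R/(J + fR)` -/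
noncomputable abbrev dlSes : ShortComplex (ModuleCat.{u} R) :=
  ModuleCat.shortComplexOfCompEqZero (dlMul J I f) (dlProj J I f) (by
    apply LinearMap.ext
    intro x
    exact (dl_exact J I f _).mpr ⟨x, rfl⟩)

lemma dlSes_shortExact (hJI : J ≤ I) (hJf : J.colon {f} = J) : (dlSes J I f).ShortExact := by
  apply ModuleCat.shortComplex_shortExact
  · exact dl_exact J I f
  · exact dlMul_injective J I f hJI hJf
  · exact dlProj_surjective J I f

theorem dl_lc_equiv (hJI : J ≤ I) (hJf : J.colon {f} = J)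
    (h0 : Subsingleton (H 𝔪 i (R ⧸ (J ⊔ Ideal.span {f}))))
    (h1 : ∀ j, j + 1 = i → Subsingleton (H 𝔪 j (R ⧸ (J ⊔ Ideal.span {f})))) :
    Nonempty (H 𝔪 i (R ⧸ (J ⊔ Ideal.span {f} * I)) ≃ₗ[R] H 𝔪 i (R ⧸ I)) := by
  have hS := dlSes_shortExact J I f hJI hJf
  have hb := lc_map_f_bijective 𝔪 i hS h0 h1
  exact ⟨(LinearEquiv.ofBijective ((localCohomology 𝔪 i).map (dlSes J I f).f).hom hb).symm⟩

end General

section MaxDepth

variable {A : Type u} [CommRing A] [IsNoetherianRing A]

lemma idealDepth_eq_depth_of_isMaximal (𝔪 : Ideal A) [h𝔪 : 𝔪.IsMaximal] (M : Type u)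
    [AddCommGroup M] [Module A M] [Module.Finite A M] :
    idealDepth 𝔪 M = depth (Localization.AtPrime 𝔪) (LocalizedModule 𝔪.primeCompl M) := by
  rw [idealDepth_eq_iInf_depth_localization]
  apply le_antisymm
  · exact iInf₂_le (⟨𝔪, h𝔪.isPrime⟩ : PrimeSpectrum A) le_rfl
  · refine le_iInf₂ fun p hp => ?_
    obtain ⟨p, hpp⟩ := p
    have : 𝔪 = p := h𝔪.eq_of_le hpp.ne_top hp
    subst this
    exact le_rfl

end MaxDepth

section Poly

open MvPolynomial Groth.Agent.Lib.Helper6.GrCM

variable {n : ℕ} {K : Type u} [Field K]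

lemma irr_isMaximal : (irr (Fin (n + 1)) K).IsMaximal := by
  unfold irr
  exact RingHom.ker_isMaximal_of_surjective _ (fun c => ⟨C c, constantCoeff_C _ c⟩)

lemma irrel_toIdeal_eq_irr :
    (GrSyz.irrel (GrSyz.stdGr K (Fin (n + 1)))).toIdeal = irr (Fin (n + 1)) K := by
  ext p
  rw [Groth.Agent.Helper9.GrMod.mem_irrel_iff]
  unfold irr
  rw [RingHom.mem_ker]

/-- A proper homogeneous ideal lies in the irrelevant ideal. -/
lemma le_irr_of_isHomogeneous (J : Ideal (MvPolynomial (Fin (n + 1)) K))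
    (hJ : J.IsHomogeneous (GrSyz.stdGr K (Fin (n + 1)))) (hJtop : J ≠ ⊤) :
    J ≤ irr (Fin (n + 1)) K := by
  obtain ⟨Q, hQ⟩ := Ideal.nonempty_minimalPrimes hJtop
  exact hQ.1.2.trans (minimalPrimes_le_irr_of_stdGr hJ hQ)

/-- the depth of `R/J` at the irrelevant ideal, for `R/J` Cohen–Macaulay -/
theorem height_add_idealDepth_irr (J : Ideal (MvPolynomial (Fin (n + 1)) K))
    (hJ : J.IsHomogeneous (GrSyz.stdGr K (Fin (n + 1)))) (h : ℕ) (hJh : J.height = h)
    [hCM : IsCohenMacaulayRing (MvPolynomial (Fin (n + 1)) K ⧸ J)] :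
    (h : ℕ∞) + idealDepth (irr (Fin (n + 1)) K) (MvPolynomial (Fin (n + 1)) K ⧸ J) =
      ((n + 1 : ℕ) : ℕ∞) := by
  have hCMR : IsCohenMacaulayRing (MvPolynomial (Fin (n + 1)) K) :=
    Groth.Agent.Helper8.CplMap.isCohenMacaulayRing_of_isRegularRing _
  have hJtop : J ≠ ⊤ := by
    rintro rfl
    rw [Ideal.height_top] at hJh
    exact ENat.top_ne_natCast _ hJh
  haveI h𝔪max : (irr (Fin (n + 1)) K).IsMaximal := irr_isMaximal
  haveI : (irr (Fin (n + 1)) K).IsPrime := h𝔪max.isPrime
  obtain ⟨Q, hQ⟩ := Ideal.nonempty_minimalPrimes hJtop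
  have hle := minimalPrimes_le_irr_of_stdGr hJ hQ
  have hJ𝔪 : J ≤ irr (Fin (n + 1)) K := hQ.1.2.trans hle
  haveI hq : ((irr (Fin (n + 1)) K).map (Ideal.Quotient.mk J)).IsPrime :=
    isPrime_map_mk J _ hJ𝔪
  have hQh : Q.height = h := by
    have hQass : Q ∈ associatedPrimes (MvPolynomial (Fin (n + 1)) K)
        (MvPolynomial (Fin (n + 1)) K ⧸ J) := by
      apply Module.associatedPrimes.minimalPrimes_annihilator_subset_associatedPrimes
      rwa [Ideal.annihilator_quotient]
    rw [height_eq_of_mem_associatedPrimes_of_homog J hJ Q hQass, hJh]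
  have h2 := height_add_supportDim_eq hCMR J (irr (Fin (n + 1)) K) hJ𝔪
    (hCM.isCohenMacaulayLocalRing_localization _) Q hQ hle
  have hNCM : IsCohenMacaulayModule (Localization.AtPrime (irr (Fin (n + 1)) K))
      (LocalizedModule (irr (Fin (n + 1)) K).primeCompl (MvPolynomial (Fin (n + 1)) K ⧸ J)) :=
    (cm_localizedModule_quotient_iff J _ hJ𝔪).mpr (hCM.isCohenMacaulayLocalRing_localization _)
  unfold IsCohenMacaulayModule at hNCM
  rw [hNCM, hQh, Groth.Agent.Lib.Helper4.DimFT1.mvPolynomial_height_of_isMaximal K (n + 1)] at h2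
  rw [idealDepth_eq_depth_of_isMaximal]
  exact_mod_cast h2

/-- vanishing of the local cohomology of `R/(J + fR)` below `n - h` -/
theorem subsingleton_H_irr_quot_sup_span (J : Ideal (MvPolynomial (Fin (n + 1)) K))
    (hJ : J.IsHomogeneous (GrSyz.stdGr K (Fin (n + 1)))) (h : ℕ) (hJh : J.height = h)
    [hCM : IsCohenMacaulayRing (MvPolynomial (Fin (n + 1)) K ⧸ J)]
    (f : MvPolynomial (Fin (n + 1)) K) (d : ℤ) (hf : f ∈ GrSyz.stdGr K (Fin (n + 1)) d)
    (hJf : J.colon {f} = J) (j : ℕ) (hj : j + h < n) :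
    Subsingleton (H (irr (Fin (n + 1)) K) j
      (MvPolynomial (Fin (n + 1)) K ⧸ (J ⊔ Ideal.span {f}))) := by
  by_cases htop : J ⊔ Ideal.span {f} = ⊤
  · haveI : Subsingleton (MvPolynomial (Fin (n + 1)) K ⧸ (J ⊔ Ideal.span {f})) := by
      rw [Submodule.Quotient.subsingleton_iff]; exact htop
    exact subsingleton_of_subsingleton _ j _
  · have hJtop : J ≠ ⊤ := by
      rintro rfl
      exact htop (by rw [top_sup_eq])
    have hhom : (J ⊔ Ideal.span {f}).IsHomogeneous (GrSyz.stdGr K (Fin (n + 1))) := by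
      refine Ideal.IsHomogeneous.sup hJ ?_
      apply Ideal.homogeneous_span
      rintro x hx
      rw [Set.mem_singleton_iff] at hx
      subst hx
      exact ⟨d, hf⟩
    have hle := le_irr_of_isHomogeneous _ hhom htop
    have hJle : J ≤ irr (Fin (n + 1)) K := le_sup_left.trans hle
    have hfm : f ∈ irr (Fin (n + 1)) K :=
      hle (Ideal.mem_sup_right (Ideal.mem_span_singleton_self f))
    have hreg := isSMulRegular_quotient_of_colon J f hJf
    have h1 := idealDepth_quotSMulTop_add_one (smul_top_ne_top hJle) hfm hreg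
    have h2 := height_add_idealDepth_irr J hJ h hJh
    rw [← h1, ← idealDepth_congr (quotSupSpanEquiv J f)] at h2
    apply subsingleton_of_lt_idealDepth _ (smul_top_ne_top hle)
    generalize idealDepth (irr (Fin (n + 1)) K)
      (MvPolynomial (Fin (n + 1)) K ⧸ (J ⊔ Ideal.span {f})) = x at h2
    cases x with
    | top => exact ENat.natCast_lt_top j
    | coe m =>
      have h3 : h + (m + 1) = n + 1 := by exact_mod_cast h2
      have : j < m := by omega
      exact_mod_cast this

end Poly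

end Groth.Agent.Helper2.CM
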